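import Cfsg.Agent.OrthElem.Table
import Cfsg.Agent.Chev.SteinbergData
import Cfsg.Agent.Chev.SimpleData
import Cfsg.Agent.Quad.POmega

/-!
# The Chevalley groups of types B₂ and D₄ as orthogonal groups
-/

set_option autoImplicit false
set_option linter.unusedSectionVars false
set_option linter.style.haveILetI false

namespace CfsgLib.OrthElem

open QuadraticMap CfsgLib.Forms CfsgLib.Quad CfsgLib.Chev Cfsg.Lie

variable {F : Type*} [Field F] {ι : Type} [Fintype ι] [DecidableEq ι] [Nonempty ι]
  {Q : QuadraticForm F (ι → F)} {σ : ι → ι} {code : ι → ℕ}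

/-- A table of root elements gives the isomorphism of the central quotients. -/
theorem nonempty_equiv (M : Table) (h : HypFrame Q σ) (hM : M.Fits σ code) {D : ChevalleyDatum}
    {T : Tab D} (G : T.Good) (hW : T.HasWit) (hc : M.chk T = true) (hN : 0 < D.nroots)
    (hperf : commutator (D.SteinbergCover F) = ⊤) (hsimple : IsSimpleGroup (D.group F))
    {a b : ι} (ha : σ a ≠ a) (hb : σ b ≠ b) (hba : b ≠ a) (hbσ : b ≠ σ a) :
    Nonempty (↥(D.group F) ≃* Cfsg.POmega F ⇑Q) := by
  let S := G.scData (G.scθ F) (fun r t hr => G.coe_scθ hr t)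
  have hθ : Function.Surjective (G.scθ F) := by
    rintro ⟨g, hg⟩
    rw [← S.θ_range] at hg
    obtain ⟨e, rfl⟩ := hg
    exact ⟨e, rfl⟩
  have hkerθ : (G.scθ F).ker = Subgroup.center (D.SteinbergCover F) := by
    rw [← S.ker_eq_center hW]
    ext e
    exact ⟨fun he => congrArg Subtype.val he, fun he => Subtype.ext he⟩
  set f := M.hom h hM G hc with hf
  have hrange : f.range = commutator (oGroup Q) := by
    refine le_antisymm ?_ ((h.commutator_le ha hb hba hbσ).trans (M.elemGroup_le h hM G hc))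
    rw [MonoidHom.range_eq_map, ← hperf, commutator_def, Subgroup.map_commutator, commutator_def]
    exact Subgroup.commutator_mono le_top le_top
  let φ : D.SteinbergCover F →* ↥(commutator (oGroup Q)) :=
    f.codRestrict _ fun e => hrange ▸ ⟨e, rfl⟩
  have hφ : Function.Surjective φ := by
    rintro ⟨g, hg⟩
    rw [← hrange] at hg
    obtain ⟨e, rfl⟩ := hg
    exact ⟨e, rfl⟩
  let ψ := (QuotientGroup.mk' (Subgroup.center ↥(commutator (oGroup Q)))).comp φ
  have hψ : Function.Surjective ψ := (QuotientGroup.mk'_surjective _).comp hφ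
  have hZ : Subgroup.center (D.SteinbergCover F) ≤ ψ.ker := fun z hz => by
    show QuotientGroup.mk' _ (φ z) = 1
    rw [QuotientGroup.mk'_apply, QuotientGroup.eq_one_iff, Subgroup.mem_center_iff]
    intro g
    obtain ⟨e, rfl⟩ := hφ g
    rw [← map_mul, ← map_mul, Subgroup.mem_center_iff.mp hz e]
  have hker : ψ.ker = (G.scθ F).ker := by
    refine le_antisymm ?_ (hkerθ ▸ hZ)
    haveI : (ψ.ker.map (G.scθ F)).Normal := (inferInstance : ψ.ker.Normal).map _ hθ
    rcases (inferInstance : (ψ.ker.map (G.scθ F)).Normal).eq_bot_or_eq_top with h0 | h0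
    · exact (Subgroup.map_eq_bot_iff _).mp h0
    exfalso
    have htop : ψ.ker = ⊤ := by
      refine eq_top_iff.mpr fun e _ => ?_
      have he : G.scθ F e ∈ ψ.ker.map (G.scθ F) := by rw [h0]; exact Subgroup.mem_top _
      obtain ⟨k, hk, hke⟩ := he
      have : k⁻¹ * e ∈ ψ.ker := hZ (hkerθ ▸ (by
        rw [MonoidHom.mem_ker, map_mul, map_inv, hke, inv_mul_cancel] : k⁻¹ * e ∈ (G.scθ F).ker))
      simpa using mul_mem hk this
    have hcen : ∀ x, φ x ∈ Subgroup.center ↥(commutator (oGroup Q)) := fun x => by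
      have : ψ x = 1 := by rw [← MonoidHom.mem_ker, htop]; exact Subgroup.mem_top x
      exact (QuotientGroup.eq_one_iff _).mp this
    have h1 : ∀ x, φ x = 1 := by
      intro x
      have : commutator (D.SteinbergCover F) ≤ φ.ker := by
        rw [commutator_def, Subgroup.commutator_le]
        intro x _ y _
        rw [MonoidHom.mem_ker, map_commutatorElement, commutatorElement_eq_one_iff_mul_comm]
        exact (Subgroup.mem_center_iff.mp (hcen y) (φ x))
      exact this (hperf ▸ Subgroup.mem_top x)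
    have e : M.y Q code 0 (1 : F) = 1 := by
      rw [← M.hom_scGen h hM G hc hN]
      exact congrArg Subtype.val (h1 (D.scGen F 0 1))
    have hr := M.chk_code hc (r := 0) hN
    obtain ⟨a', b', ea, eb, pa, pb, ha', hba', hbσ', hs⟩ := M.code_spec (F := F) hM hr
    have e' := M.y_apply h hM hr 1 (δ[F] (σ a')) b'
    rw [e, ea, eb, hM.dual_code, hM.dual_code, M.pt_code hM, M.pt_code hM] at e'
    simp [hM.inj.eq_iff, hba'.symm, Pi.single_eq_of_ne hbσ'] at e'
    simp [← e'] at hs
  exact ⟨((QuotientGroup.quotientKerEquivOfSurjective _ hθ).symm.trans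
    ((QuotientGroup.quotientMulEquivOfEq hker.symm).trans
      (QuotientGroup.quotientKerEquivOfSurjective _ hψ))).trans (pOmegaEquiv Q).symm⟩

/-! ### Type B₂ -/

/-- The root elements of `O₅`. -/
def tableB2 : Table where
  n := 5
  dual k := [0, 3, 4, 1, 2].getD k 5
  codes := [(3, 4, 1), (3, 0, -1), (4, 0, -1), (3, 2, 1), (4, 1, 1), (2, 0, 1), (1, 0, 1), (1, 2, -1)]

/-- The coordinates of `O₅`. -/
def codeB2 : Unit ⊕ (Fin 2 ⊕ Fin 2) → ℕ :=
  Sum.elim (fun _ => 0) (Sum.elim (fun i => 1 + i.val) fun i => 3 + i.val)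

theorem chk_B2 : tableB2.chk B2Data.tab = true := by decide +kernel

theorem fits_B2 : tableB2.Fits (Sum.map id Sum.swap) codeB2 where
  inj := by decide
  lt := by decide
  surj := by decide
  dual_code := by decide

theorem frame_odd (m : ℕ) : HypFrame (oddQ (F := F) m) (Sum.map id Sum.swap) where
  invol := by rintro (_ | _ | _) <;> rfl
  quad_hyp := by
    rintro (_ | i | i) hi <;> first | exact absurd rfl hi |
      simp [oddQ_coe, Cfsg.quadFormOdd]
  quad_fix := by
    rintro (_ | i | i) hi <;> first | (simp at hi; done) | simp [oddQ_coe, Cfsg.quadFormOdd]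
  polar_hyp := by
    rintro x (_ | i | i) hi <;> first | exact absurd rfl hi |
      simp [polar, oddQ_coe, Cfsg.quadFormOdd, Pi.single_apply, add_mul, mul_add,
        Finset.sum_add_distrib]
  polar_fix := by
    rintro x (_ | i | i) hi <;> first | (simp at hi; done) |
      (simp [polar, oddQ_coe, Cfsg.quadFormOdd]; ring)
  fix_unique := by
    rintro (_ | i | i) (_ | j | j) hi hj <;> first | rfl | (simp at hi; done) | (simp at hj; done)

theorem nonempty_B2 (hF : ∃ a : F, a ≠ 0 ∧ a ≠ 1) :
    Nonempty (↥(chevB2.group F) ≃* Cfsg.POmega F (Cfsg.quadFormOdd 2 F)) := by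
  rw [← oddQ_coe]
  exact nonempty_equiv tableB2 (frame_odd 2) fits_B2 good_B2 ⟨_, wits_B2⟩ chk_B2 (by decide)
    ((good_B2.scData (good_B2.scθ F) (fun r t hr => good_B2.coe_scθ hr t)).commutator_eq_top
      ⟨_, wits_B2⟩ perf_B2 fun _ => hF)
    (good_B2.isSimple conn_B2 perf_B2 fun _ => hF).1
    (a := Sum.inr (Sum.inl 0)) (b := Sum.inr (Sum.inl 1)) (by decide) (by decide) (by decide)
    (by decide)

/-! ### Type D₄ -/

/-- The root elements of `O₈`. -/
def tableD4 : Table where
  n := 8
  dual k := [4, 5, 6, 7, 0, 1, 2, 3].getD k 8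
  codes := [(4, 5, -1), (4, 6, -1), (3, 4, -1), (4, 7, -1), (2, 4, 1), (4, 1, 1), (5, 6, 1),
    (3, 5, 1), (5, 7, 1), (5, 2, 1), (6, 3, 1), (6, 7, -1), (2, 3, 1), (7, 2, 1), (6, 1, 1),
    (1, 3, -1), (1, 7, 1), (1, 2, -1), (5, 0, 1), (0, 6, 1), (0, 3, 1), (0, 7, -1), (0, 2, 1),
    (0, 1, 1)]

/-- The coordinates of `O₈`. -/
def codeD4 : Fin 4 ⊕ Fin 4 → ℕ := Sum.elim (fun i => i.val) fun i => 4 + i.val

theorem chk_D4 : tableD4.chk D4Data.tab = true := by decide +kernel

theorem fits_D4 : tableD4.Fits Sum.swap codeD4 where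
  inj := by decide
  lt := by decide
  surj := by decide
  dual_code := by decide

theorem frame_plus (m : ℕ) : HypFrame (plusQ (F := F) m) Sum.swap where
  invol := by rintro (_ | _) <;> rfl
  quad_hyp := by rintro (i | i) _ <;> simp [plusQ_coe, Cfsg.quadFormPlus]
  quad_fix := by rintro (i | i) hi <;> simp at hi
  polar_hyp := by
    rintro x (i | i) _ <;>
      simp [polar, plusQ_coe, Cfsg.quadFormPlus, Pi.single_apply, add_mul, mul_add,
        Finset.sum_add_distrib]
  polar_fix := by rintro x (i | i) hi <;> simp at hi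
  fix_unique := by rintro (i | i) _ hi _ <;> simp at hi

theorem nonempty_D4 :
    Nonempty (↥(chevD4.group F) ≃* Cfsg.POmega F (Cfsg.quadFormPlus 4 F)) := by
  rw [← plusQ_coe]
  exact nonempty_equiv tableD4 (frame_plus 4) fits_D4 good_D4 ⟨_, wits_D4⟩ chk_D4 (by decide)
    ((good_D4.scData (good_D4.scθ F) (fun r t hr => good_D4.coe_scθ hr t)).commutator_eq_top
      ⟨_, wits_D4⟩ perf_D4 fun e => Bool.noConfusion e)
    (good_D4.isSimple conn_D4 perf_D4 fun e => Bool.noConfusion e).1
    (a := Sum.inl 0) (b := Sum.inl 1) (by decide) (by decide) (by decide) (by decide)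

end CfsgLib.OrthElem
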