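import Cfsg.Agent.Quad.Siegel
import Mathlib.LinearAlgebra.StdBasis

/-!
# The elementary group of a split orthogonal group, over any field

For a quadratic form which is hyperbolic on coordinates paired by an involution, with at most one
further coordinate, every commutator of isometries is a product of root transformations.
-/

set_option autoImplicit false
set_option linter.style.haveILetI false
set_option linter.unusedSectionVars false

namespace CfsgLib.OrthElem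

open QuadraticMap CfsgLib.Forms CfsgLib.Quad

variable {F : Type*} [Field F] {ι : Type} [Fintype ι] [DecidableEq ι]

/-- The coordinate vector. -/
scoped notation:max "δ[" K "]" i:max => (Pi.single i (1 : K) : _ → K)

/-- Coordinates paired hyperbolically, with at most one left over. -/
structure HypFrame (Q : QuadraticForm F (ι → F)) (σ : ι → ι) : Prop where
  invol : ∀ i, σ (σ i) = i
  quad_hyp : ∀ i, σ i ≠ i → Q (δ[F] i) = 0
  quad_fix : ∀ i, σ i = i → Q (δ[F] i) = 1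
  polar_hyp : ∀ x i, σ i ≠ i → polar Q x (δ[F] i) = x (σ i)
  polar_fix : ∀ x i, σ i = i → polar Q x (δ[F] i) = 2 * x i
  fix_unique : ∀ i j, σ i = i → σ j = j → i = j

/-- The group generated by the root transformations. -/
def elemGroup (Q : QuadraticForm F (ι → F)) (σ : ι → ι) : Subgroup (oGroup Q) :=
  Subgroup.closure {g | ∃ a b, ∃ t : F, σ a ≠ a ∧ b ≠ a ∧ b ≠ σ a ∧ g = siegel Q (δ[F] a) (t • δ[F] b)}

variable {Q : QuadraticForm F (ι → F)} {σ : ι → ι}

namespace HypFrame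

variable (h : HypFrame Q σ)
include h

theorem hyp_dual {a : ι} (ha : σ a ≠ a) : σ (σ a) ≠ σ a := by
  rw [h.invol]; exact ha.symm

theorem dual_eq {a b : ι} (e : σ a = b) : σ b = a := by rw [← e, h.invol]

theorem polar_left_hyp {i : ι} (hi : σ i ≠ i) (x : ι → F) : polar Q (δ[F] i) x = x (σ i) := by
  rw [polar_comm (⇑Q), h.polar_hyp x i hi]

theorem polar_delta_ne {a b : ι} (ha : σ a ≠ a) (hb : b ≠ σ a) (t : F) :
    polar Q (δ[F] a) (t • δ[F] b) = 0 := by
  rw [h.polar_left_hyp ha, Pi.smul_apply, Pi.single_eq_of_ne hb.symm, smul_zero]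

theorem quad_sum_hyp {a : ι} (ha : σ a ≠ a) (x y : F) :
    Q (x • δ[F] a + y • δ[F] (σ a)) = x * y := by
  rw [quad_add, quad_smul, quad_smul, h.quad_hyp a ha, h.quad_hyp _ (h.hyp_dual ha),
    polar_smul_left, polar_smul_right, h.polar_hyp _ _ (h.hyp_dual ha), h.invol, Pi.single_eq_same]
  simp

/-- Two isometries agreeing on the coordinate vectors are equal. -/
theorem oGroup_ext {g g' : oGroup Q} (e : ∀ i, g.1 (δ[F] i) = g'.1 (δ[F] i)) : g = g' := by
  refine Subtype.ext (LinearEquiv.toLinearMap_injective ?_)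
  refine (Pi.basisFun F ι).ext fun i => ?_
  simpa using e i

/-- The Siegel transformation along a root is elementary. -/
theorem siegel_mem {a : ι} (ha : σ a ≠ a) {z : ι → F} (hz : z (σ a) = 0) :
    siegel Q (δ[F] a) z ∈ elemGroup Q σ := by
  have hQ := h.quad_hyp a ha
  have key : ∀ s : Finset ι, polar Q (δ[F] a) (∑ b ∈ s, z b • δ[F] b) = 0 ∧
      siegel Q (δ[F] a) (∑ b ∈ s, z b • δ[F] b) ∈ elemGroup Q σ := by
    intro s
    induction s using Finset.induction_on with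
    | empty =>
      exact ⟨by simp, by rw [Finset.sum_empty, siegel_zero hQ]; exact one_mem _⟩
    | insert b s hb ih =>
      have hp : polar Q (δ[F] a) (z b • δ[F] b) = 0 := by
        rcases eq_or_ne b (σ a) with rfl | hb'
        · rw [hz, zero_smul, polar_zero_right]
        · exact h.polar_delta_ne ha hb' _
      rw [Finset.sum_insert hb]
      refine ⟨by rw [polar_add_right, hp, ih.1, add_zero], ?_⟩
      rw [← siegel_mul hQ hp ih.1]
      refine mul_mem ?_ ih.2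
      by_cases hba : b = a
      · rw [hba, ← zero_add (z a • δ[F] a), siegel_add_smul hQ (polar_zero_right Q _),
          siegel_zero hQ]
        exact one_mem _
      by_cases hbσ : b = σ a
      · rw [hbσ, hz, zero_smul, siegel_zero hQ]; exact one_mem _
      exact Subgroup.subset_closure ⟨a, b, z b, ha, hba, hbσ, rfl⟩
  have e : z = ∑ b, z b • δ[F] b := by
    funext i
    simp [Finset.sum_apply, Pi.single_apply]
  rw [e]
  exact (key Finset.univ).2

/-- An isometry permuting the hyperbolic lines normalises the elementary group. -/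
theorem normalize {g : oGroup Q}
    (hg : ∀ a, σ a ≠ a → ∃ c, ∃ lam : F, σ c ≠ c ∧ lam ≠ 0 ∧ g.1 (δ[F] a) = lam • δ[F] c)
    {u : oGroup Q} (hu : u ∈ elemGroup Q σ) : g * u * g⁻¹ ∈ elemGroup Q σ := by
  induction hu using Subgroup.closure_induction with
  | mem x hx =>
    obtain ⟨a, b, t, ha, -, hb, rfl⟩ := hx
    obtain ⟨c, lam, hc, hlam, e⟩ := hg a ha
    have hp := h.polar_delta_ne ha hb t
    have hp' : polar Q (lam • δ[F] c) (g.1 (t • δ[F] b)) = 0 := by rw [← e, polar_oGroup, hp]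
    rw [polar_smul_left, smul_eq_mul, mul_eq_zero, or_iff_right hlam] at hp'
    rw [siegel_conj g (h.quad_hyp a ha) hp, e, siegel_smul (h.quad_hyp c hc) hp']
    refine h.siegel_mem hc ?_
    rw [Pi.smul_apply, smul_eq_mul, mul_eq_zero]
    right
    exact (h.polar_left_hyp hc _).symm.trans hp'
  | one => simp [one_mem]
  | mul x y _ _ hx hy =>
    rw [show g * (x * y) * g⁻¹ = g * x * g⁻¹ * (g * y * g⁻¹) by group]
    exact mul_mem hx hy
  | inv x _ hx =>
    rw [show g * x⁻¹ * g⁻¹ = (g * x * g⁻¹)⁻¹ by group]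
    exact inv_mem hx

omit h in
/-- Fixing the coordinate vectors of a set. -/
def Fixes (K : Finset ι) (g : oGroup Q) : Prop := ∀ i ∈ K, g.1 (δ[F] i) = δ[F] i

omit h in
theorem Fixes.mul {K : Finset ι} {g g' : oGroup Q} (hg : Fixes K g) (hg' : Fixes K g') :
    Fixes K (g * g') := fun i hi => by
  show g.1 (g'.1 (δ[F] i)) = _
  rw [hg' i hi, hg i hi]

theorem apply_fixed {K : Finset ι} (hK : ∀ i ∈ K, σ i ≠ i ∧ σ i ∈ K) {g : oGroup Q}
    (hg : Fixes K g) (x : ι → F) {i : ι} (hi : i ∈ K) : g.1 x i = x i := by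
  obtain ⟨h1, h2⟩ := hK i hi
  have e := polar_oGroup g x (δ[F] (σ i))
  rwa [hg _ h2, h.polar_hyp _ _ (h.hyp_dual h1), h.polar_hyp _ _ (h.hyp_dual h1), h.invol] at e

/-- Siegel transformations away from a set fix it. -/
theorem fixes_siegel {K : Finset ι} (hK : ∀ i ∈ K, σ i ≠ i ∧ σ i ∈ K) {a : ι} (ha : σ a ≠ a)
    (haK : a ∉ K) {z : ι → F} (hz : z (σ a) = 0) (hzK : ∀ i ∈ K, z i = 0) :
    Fixes K (siegel Q (δ[F] a) z) := fun i hi => by
  obtain ⟨h1, h2⟩ := hK i hi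
  have hσ : σ a ∉ K := fun hh => haK (by simpa [h.invol] using (hK _ hh).2)
  rw [siegel_apply (h.quad_hyp a ha) (by rw [h.polar_left_hyp ha, hz]), h.polar_hyp _ _ ha,
    h.polar_left_hyp h1, hzK _ h2, Pi.single_eq_of_ne (fun e : σ a = i => hσ (e ▸ hi))]
  simp

/-- A coordinate other than zero lets the rest be cleared. -/
theorem clear {K : Finset ι} (hK : ∀ i ∈ K, σ i ≠ i ∧ σ i ∈ K) {c : ι} (hc : σ c ≠ c)
    (hcK : c ∉ K) {v : ι → F} (hv : Q v = 0) (hvK : ∀ i ∈ K, v i = 0) (hvc : v c ≠ 0) :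
    ∃ u ∈ elemGroup Q σ, Fixes K u ∧ u.1 (δ[F] (σ c)) = δ[F] (σ c) ∧ u.1 v = v c • δ[F] c := by
  have hσc := h.hyp_dual hc
  have hσK : σ c ∉ K := fun hh => hcK (by simpa [h.invol] using (hK _ hh).2)
  set z : ι → F := fun i => if i = c ∨ i = σ c then 0 else - v i / v c with hz
  have hzc : z (σ (σ c)) = 0 := by simp [hz, h.invol]
  have hp : polar Q (δ[F] (σ c)) z = 0 := by rw [h.polar_left_hyp hσc, hzc]
  refine ⟨siegel Q (δ[F] (σ c)) z, h.siegel_mem hσc hzc, h.fixes_siegel hK hσc hσK hzc fun i hi => ?_,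
    ?_, ?_⟩
  · simp only [hz]; split_ifs <;> simp [hvK i hi]
  · rw [siegel_apply (h.quad_hyp _ hσc) hp, hp, polar_self, h.quad_hyp _ hσc]
    simp
  · set w := (siegel Q (δ[F] (σ c)) z).1 v with hw
    have hwQ : Q w = 0 := by rw [hw, (siegel Q (δ[F] (σ c)) z).2, hv]
    have hwe : w = v + polar Q v (δ[F] (σ c)) • z -
        (polar Q v z + Q z * polar Q v (δ[F] (σ c))) • δ[F] (σ c) :=
      siegel_apply (h.quad_hyp _ hσc) hp v
    have hsupp : w = v c • δ[F] c + w (σ c) • δ[F] (σ c) := by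
      funext i
      simp only [Pi.add_apply, Pi.smul_apply, smul_eq_mul]
      by_cases h1 : i = σ c
      · subst h1; simp [Pi.single_eq_of_ne hc]
      rw [hwe]
      simp only [h.polar_hyp _ _ hσc, h.invol, Pi.sub_apply, Pi.add_apply, Pi.smul_apply,
        smul_eq_mul, Pi.single_eq_of_ne h1, mul_zero, sub_zero, add_zero]
      by_cases h2 : i = c
      · subst h2; simp [hz]
      · simp only [hz, if_neg (not_or.2 ⟨h2, h1⟩), Pi.single_eq_of_ne h2]
        field_simp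
        ring
    rw [hsupp, h.quad_sum_hyp hc, mul_eq_zero, or_iff_right hvc] at hwQ
    rw [hsupp, hwQ, zero_smul, add_zero]

/-- The coordinate at a free hyperbolic place can be made non-zero. -/
theorem exists_ne_zero {K : Finset ι} (hK : ∀ i ∈ K, σ i ≠ i ∧ σ i ∈ K) {a l : ι}
    (ha : σ a ≠ a) (haK : a ∉ K) (hl : σ l ≠ l) (hlK : l ∉ K) (hla : l ≠ a) (hlσ : l ≠ σ a)
    {v : ι → F} (hv0 : v ≠ 0) (hv : Q v = 0) (hvK : ∀ i ∈ K, v i = 0) :
    ∃ u ∈ elemGroup Q σ, Fixes K u ∧ (u.1 v) a = 1 := by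
  -- moving the coordinate `s` to the coordinate `d`
  have move : ∀ (s d : ι) (x : ι → F) (t : F), σ s ≠ s → σ d ≠ d → s ∉ K → d ∉ K → d ≠ s →
      d ≠ σ s → ∃ u ∈ elemGroup Q σ, Fixes K u ∧ (u.1 x) d = x d + t * x s := by
    intro s d x t hs hd hsK hdK hds hdσ
    have hσs : σ s ∉ K := fun hh => hsK (by simpa [h.invol] using (hK _ hh).2)
    have hz : (t • δ[F] d) (σ (σ s)) = 0 := by
      rw [h.invol, Pi.smul_apply, Pi.single_eq_of_ne hds.symm, smul_zero]
    refine ⟨_, h.siegel_mem (h.hyp_dual hs) hz, h.fixes_siegel hK (h.hyp_dual hs) hσs hz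
      fun i hi => ?_, ?_⟩
    · rw [Pi.smul_apply, Pi.single_eq_of_ne fun e => hdK (by rw [← e]; exact hi), smul_zero]
    · rw [siegel_apply (h.quad_hyp _ (h.hyp_dual hs)) (by
        rw [h.polar_left_hyp (h.hyp_dual hs), hz]), h.polar_hyp _ _ (h.hyp_dual hs), h.invol]
      simp [Pi.single_eq_of_ne hdσ, mul_comm]
  have main : ∀ x : ι → F, (∃ j, σ j ≠ j ∧ j ∉ K ∧ j ≠ a ∧ j ≠ σ a ∧ x j ≠ 0) →
      ∃ u ∈ elemGroup Q σ, Fixes K u ∧ (u.1 x) a = 1 := by
    rintro x ⟨j, hj, hjK, hja, hjσ, hx⟩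
    obtain ⟨u, hu, hf, e⟩ := move j a x ((1 - x a) / x j) hj ha hjK haK hja.symm
      (fun e => hjσ (h.dual_eq e.symm).symm)
    exact ⟨u, hu, hf, by rw [e]; field_simp; ring⟩
  by_cases h0 : ∃ j, σ j ≠ j ∧ j ∉ K ∧ j ≠ a ∧ j ≠ σ a ∧ v j ≠ 0
  · exact main v h0
  push Not at h0
  have hσK : σ a ∉ K := fun hh => haK (by simpa [h.invol] using (hK _ hh).2)
  have hs : ∃ s, (s = a ∨ s = σ a) ∧ v s ≠ 0 := by
    by_contra hc
    push Not at hc
    apply hv0
    have hfix : ∀ i, σ i ≠ i → v i = 0 := fun i hi => by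
      by_cases hiK : i ∈ K
      · exact hvK i hiK
      by_cases hia : i = a
      · exact hc i (Or.inl hia)
      by_cases hiσ : i = σ a
      · exact hc i (Or.inr hiσ)
      exact h0 i hi hiK hia hiσ
    funext i
    by_cases hi : σ i = i
    · have e : v = v i • δ[F] i := by
        funext k
        by_cases hk : k = i
        · subst hk; simp
        · simp [Pi.single_eq_of_ne hk, hfix k fun e => hk (h.fix_unique k i e hi)]
      rw [e, quad_smul, h.quad_fix i hi, mul_one, mul_self_eq_zero] at hv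
      exact hv
    · exact hfix i hi
  obtain ⟨s, hs, hvs⟩ := hs
  have hσl : l ≠ σ s := by
    rcases hs with rfl | rfl
    · exact hlσ
    · rw [h.invol]; exact hla
  have hls : l ≠ s := by rcases hs with rfl | rfl <;> assumption
  obtain ⟨u, hu, hf, e⟩ := move s l v 1 (by rcases hs with rfl | rfl; exacts [ha, h.hyp_dual ha]) hl
    (by rcases hs with rfl | rfl <;> assumption) hlK hls hσl
  rw [h0 l hl hlK hla hlσ, zero_add, one_mul] at e
  obtain ⟨u', hu', hf', e'⟩ := main (u.1 v) ⟨l, hl, hlK, hla, hlσ, by rw [e]; exact hvs⟩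
  exact ⟨u' * u, mul_mem hu' hu, hf'.mul hf, e'⟩

/-- One more hyperbolic pair can be fixed. -/
theorem exists_fix_pair {K : Finset ι} (hK : ∀ i ∈ K, σ i ≠ i ∧ σ i ∈ K) {a l : ι}
    (ha : σ a ≠ a) (haK : a ∉ K) (hl : σ l ≠ l) (hlK : l ∉ K) (hla : l ≠ a) (hlσ : l ≠ σ a)
    {g : oGroup Q} (hg : Fixes K g) :
    ∃ u ∈ elemGroup Q σ, Fixes (insert a (insert (σ a) K)) (u * g) := by
  have hσK : σ a ∉ K := fun hh => haK (by simpa [h.invol] using (hK _ hh).2)
  obtain ⟨u₁, hu₁, hf₁, e₁⟩ := h.exists_ne_zero hK ha haK hl hlK hla hlσ (v := g.1 (δ[F] a))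
    (fun e => by
      have := g.1.map_eq_zero_iff.1 e
      simpa using congrFun this a)
    (by rw [g.2, h.quad_hyp a ha])
    (fun i hi => by rw [h.apply_fixed hK hg _ hi, Pi.single_eq_of_ne fun e : i = a => haK (e ▸ hi)])
  obtain ⟨u₂, hu₂, hf₂, -, e₂⟩ := h.clear hK ha haK (v := (u₁ * g).1 (δ[F] a))
    (by rw [(u₁ * g).2, h.quad_hyp a ha])
    (fun i hi => by
      rw [h.apply_fixed hK (hf₁.mul hg) _ hi, Pi.single_eq_of_ne fun e : i = a => haK (e ▸ hi)])
    (by rw [show ((u₁ * g).1 (δ[F] a)) a = 1 from e₁]; exact one_ne_zero)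
  rw [show ((u₁ * g).1 (δ[F] a)) a = 1 from e₁, one_smul] at e₂
  set g₂ := u₂ * (u₁ * g) with hg₂
  have hga : g₂.1 (δ[F] a) = δ[F] a := e₂
  have hgK : Fixes K g₂ := hf₂.mul (hf₁.mul hg)
  have hw : (g₂.1 (δ[F] (σ a))) (σ a) = 1 := by
    have e := polar_oGroup g₂ (δ[F] (σ a)) (δ[F] a)
    rwa [hga, h.polar_hyp _ _ ha, h.polar_hyp _ _ ha, Pi.single_eq_same] at e
  obtain ⟨u₃, hu₃, hf₃, e₃, e₄⟩ := h.clear hK (h.hyp_dual ha) hσK (v := g₂.1 (δ[F] (σ a)))
    (by rw [g₂.2, h.quad_hyp _ (h.hyp_dual ha)])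
    (fun i hi => by
      rw [h.apply_fixed hK hgK _ hi, Pi.single_eq_of_ne fun e : i = σ a => hσK (e ▸ hi)])
    (by rw [hw]; exact one_ne_zero)
  rw [hw, one_smul] at e₄
  rw [h.invol] at e₃
  refine ⟨u₃ * u₂ * u₁, mul_mem (mul_mem hu₃ hu₂) hu₁, ?_⟩
  rw [show u₃ * u₂ * u₁ * g = u₃ * g₂ by simp only [hg₂, mul_assoc]]
  intro i hi
  show u₃.1 (g₂.1 (δ[F] i)) = _
  rcases Finset.mem_insert.1 hi with rfl | hi
  · rw [hga, e₃]
  rcases Finset.mem_insert.1 hi with rfl | hi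
  · exact e₄
  · rw [hgK i hi, hf₃ i hi]

/-- The elementary diagonal element on two pairs. -/
theorem exists_diag_pair {a b : ι} (ha : σ a ≠ a) (hb : σ b ≠ b) (hba : b ≠ a) (hbσ : b ≠ σ a)
    {t : F} (ht : t ≠ 0) :
    ∃ u ∈ elemGroup Q σ, u.1 (δ[F] a) = t • δ[F] a ∧ u.1 (δ[F] (σ a)) = t⁻¹ • δ[F] (σ a) ∧
      u.1 (δ[F] b) = t⁻¹ • δ[F] b ∧ u.1 (δ[F] (σ b)) = t • δ[F] (σ b) ∧
      ∀ i, i ≠ a → i ≠ σ a → i ≠ b → i ≠ σ b → u.1 (δ[F] i) = δ[F] i := by
  -- the transvection adding `s` times the coordinate `y` to the coordinate `x`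
  let T : ι → ι → F → oGroup Q := fun x y s => siegel Q (δ[F] (σ y)) (s • δ[F] x)
  have hT : ∀ (x y : ι) (s : F), σ x ≠ x → σ y ≠ y → x ≠ y → x ≠ σ y →
      T x y s ∈ elemGroup Q σ ∧ ∀ v, (T x y s).1 v =
        v + (s * v y) • δ[F] x - (s * v (σ x)) • δ[F] (σ y) := by
    intro x y s hx hy hxy hxσ
    have hz : (s • δ[F] x) (σ (σ y)) = 0 := by
      rw [h.invol, Pi.smul_apply, Pi.single_eq_of_ne hxy.symm, smul_zero]
    refine ⟨h.siegel_mem (h.hyp_dual hy) hz, fun v => ?_⟩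
    rw [siegel_apply (h.quad_hyp _ (h.hyp_dual hy)) (by
      rw [h.polar_left_hyp (h.hyp_dual hy), hz]), h.polar_hyp _ _ (h.hyp_dual hy), h.invol,
      polar_smul_right, h.polar_hyp _ _ hx, quad_smul, h.quad_hyp _ hx, smul_smul, mul_comm (v y)]
    simp
  have hab' : a ≠ σ b := fun e => hbσ (h.dual_eq e.symm).symm
  let n : F → oGroup Q := fun s => T a b s * T b a (-s⁻¹) * T a b s
  refine ⟨n t * n (-1), ?_, ?_⟩
  · refine mul_mem (mul_mem (mul_mem ?_ ?_) ?_) (mul_mem (mul_mem ?_ ?_) ?_)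
    all_goals
      first
      | exact (hT a b _ ha hb hba.symm hab').1
      | exact (hT b a _ hb ha hba hbσ).1
  have hn : ∀ (s : F) (v : ι → F), (n s).1 v =
      (T a b s).1 ((T b a (-s⁻¹)).1 ((T a b s).1 v)) := fun _ _ => rfl
  have eA := fun s => (hT a b s ha hb hba.symm hab').2
  have eB := fun s => (hT b a s hb ha hba hbσ).2
  have h1 : σ a ≠ σ b := fun e => hba (by rw [← h.invol b, ← e, h.invol])
  have na : ∀ s : F, s ≠ 0 → (n s).1 (δ[F] a) = (-s⁻¹) • δ[F] b ∧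
      (n s).1 (δ[F] b) = s • δ[F] a ∧ (n s).1 (δ[F] (σ a)) = (-s) • δ[F] (σ b) ∧
      (n s).1 (δ[F] (σ b)) = s⁻¹ • δ[F] (σ a) := by
    intro s hs
    refine ⟨?_, ?_, ?_, ?_⟩ <;>
    · rw [hn, eA, eB, eA]
      funext i
      simp [Pi.single_apply, hba, hba.symm, hbσ, hbσ.symm, hab', hab'.symm, ha, ha.symm, hb,
        hb.symm, h1, h1.symm, h.invol]
      split_ifs <;> first | simp_all | (field_simp; ring) | ring
  have nf : ∀ (s : F) (i : ι), i ≠ a → i ≠ σ a → i ≠ b → i ≠ σ b → (n s).1 (δ[F] i) = δ[F] i := by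
    intro s i i1 i2 i3 i4
    have fa : (T a b s).1 (δ[F] i) = δ[F] i := by
      rw [eA, Pi.single_eq_of_ne i3.symm, Pi.single_eq_of_ne i2.symm]; simp
    have fb : (T b a (-s⁻¹)).1 (δ[F] i) = δ[F] i := by
      rw [eB, Pi.single_eq_of_ne i1.symm, Pi.single_eq_of_ne i4.symm]; simp
    rw [hn, fa, fb, fa]
  obtain ⟨a1, b1, c1, d1⟩ := na t ht
  obtain ⟨a2, b2, c2, d2⟩ := na (-1) (by simp)
  have hm : ∀ v, (n t * n (-1)).1 v = (n t).1 ((n (-1)).1 v) := fun _ => rfl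
  refine ⟨?_, ?_, ?_, ?_, fun i i1 i2 i3 i4 => ?_⟩
  · rw [hm, a2, map_smul, b1, smul_smul]; simp
  · rw [hm, c2, map_smul, d1, smul_smul]; simp
  · rw [hm, b2, map_smul, a1, smul_smul]; simp
  · rw [hm, d2, map_smul, c1, smul_smul]; simp
  · rw [hm, nf _ i i1 i2 i3 i4, nf _ i i1 i2 i3 i4]

/-- The squares in the torus of one pair are elementary. -/
theorem exists_diag_sq {a b : ι} (ha : σ a ≠ a) (hb : σ b ≠ b) (hba : b ≠ a) (hbσ : b ≠ σ a)
    {t : F} (ht : t ≠ 0) :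
    ∃ u ∈ elemGroup Q σ, u.1 (δ[F] a) = (t * t) • δ[F] a ∧
      u.1 (δ[F] (σ a)) = (t * t)⁻¹ • δ[F] (σ a) ∧
      ∀ i, i ≠ a → i ≠ σ a → u.1 (δ[F] i) = δ[F] i := by
  obtain ⟨u, hu, a1, a2, a3, a4, a5⟩ := h.exists_diag_pair ha hb hba hbσ ht
  obtain ⟨u', hu', b1, b2, b3, b4, b5⟩ := h.exists_diag_pair ha (h.hyp_dual hb) (b := σ b)
    (fun e => hbσ (h.dual_eq e).symm) (fun e => hba (by rw [← h.invol b, e, h.invol])) ht
  rw [h.invol] at b4 b5
  refine ⟨u * u', mul_mem hu hu', ?_, ?_, fun i i1 i2 => ?_⟩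
  · show u.1 (u'.1 _) = _
    rw [b1, map_smul, a1, smul_smul]
  · show u.1 (u'.1 _) = _
    rw [b2, map_smul, a2, smul_smul, mul_inv]
  · show u.1 (u'.1 _) = _
    by_cases i3 : i = b
    · subst i3; rw [b4, map_smul, a3, smul_smul, mul_inv_cancel₀ ht, one_smul]
    by_cases i4 : i = σ b
    · subst i4; rw [b3, map_smul, a4, smul_smul, inv_mul_cancel₀ ht, one_smul]
    rw [b5 i i1 i2 i4 i3, a5 i i1 i2 i3 i4]

/-- An isometry acting monomially on one pair and fixing the others. -/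
def Mono (a : ι) (g : oGroup Q) : Prop :=
  (∀ i, σ i ≠ i → i ≠ a → i ≠ σ a → g.1 (δ[F] i) = δ[F] i) ∧
  (∃ c lam, (c = a ∨ c = σ a) ∧ lam ≠ (0 : F) ∧
    g.1 (δ[F] a) = lam • δ[F] c ∧ g.1 (δ[F] (σ a)) = lam⁻¹ • δ[F] (σ c)) ∧
  ∀ i, σ i = i → ∃ s : F, s * s = 1 ∧ g.1 (δ[F] i) = s • δ[F] i

/-- Reduction to a monomial element. -/
theorem exists_mono (a l : ι) (ha : σ a ≠ a) (hl : σ l ≠ l) (hla : l ≠ a) (hlσ : l ≠ σ a)
    (g : oGroup Q) : ∃ u ∈ elemGroup Q σ, Mono (σ := σ) a (u * g) := by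
  have key : ∀ (n : ℕ) (K : Finset ι) (g : oGroup Q), (∀ i ∈ K, σ i ≠ i ∧ σ i ∈ K) →
      a ∉ K → Fixes K g →
      (Finset.univ.filter fun i => σ i ≠ i ∧ i ∉ K ∧ i ≠ a ∧ i ≠ σ a).card = n →
      ∃ u ∈ elemGroup Q σ, ∀ i, σ i ≠ i → i ≠ a → i ≠ σ a → (u * g).1 (δ[F] i) = δ[F] i := by
    intro n
    induction n using Nat.strong_induction_on with
    | _ n ih =>
      intro K g hK haK hg hn
      by_cases hex : ∃ j, σ j ≠ j ∧ j ∉ K ∧ j ≠ a ∧ j ≠ σ a
      · obtain ⟨j, hj, hjK, hja, hjσ⟩ := hex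
        have haj : a ≠ σ j := fun e => hjσ (h.dual_eq e.symm).symm
        obtain ⟨u, hu, hf⟩ := h.exists_fix_pair hK hj hjK ha haK hja.symm haj hg
        have hK' : ∀ i ∈ insert j (insert (σ j) K),
            σ i ≠ i ∧ σ i ∈ insert j (insert (σ j) K) := by
          intro i hi
          rcases Finset.mem_insert.1 hi with rfl | hi
          · exact ⟨hj, by simp⟩
          rcases Finset.mem_insert.1 hi with rfl | hi
          · exact ⟨h.hyp_dual hj, by simp [h.invol]⟩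
          · exact ⟨(hK i hi).1, by simp [(hK i hi).2]⟩
        obtain ⟨u', hu', hf'⟩ := ih _ (by
          rw [← hn]
          refine Finset.card_lt_card (Finset.ssubset_iff_subset_ne.2 ⟨fun i hi => ?_, fun e => ?_⟩)
          · simp only [Finset.mem_filter, Finset.mem_univ, true_and, Finset.mem_insert] at hi ⊢
            tauto
          · have : j ∈ Finset.univ.filter fun i => σ i ≠ i ∧ i ∉ K ∧ i ≠ a ∧ i ≠ σ a := by
              simp [hj, hjK, hja, hjσ]
            rw [← e] at this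
            simp at this) (insert j (insert (σ j) K)) (u * g) hK' (by
          simp [hja.symm, haj, haK]) hf rfl
        exact ⟨u' * u, mul_mem hu' hu, fun i i1 i2 i3 => by rw [mul_assoc]; exact hf' i i1 i2 i3⟩
      · push Not at hex
        refine ⟨1, one_mem _, fun i i1 i2 i3 => ?_⟩
        rw [one_mul]
        refine hg i ?_
        by_contra hiK
        exact i3 (hex i i1 hiK i2)
  obtain ⟨u, hu, hfix⟩ := key _ ∅ g (by simp) (by simp) (fun i hi => by simp at hi) rfl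
  set K : Finset ι := Finset.univ.filter fun i => σ i ≠ i ∧ i ≠ a ∧ i ≠ σ a with hKdef
  have hK : ∀ i ∈ K, σ i ≠ i ∧ σ i ∈ K := by
    intro i hi
    obtain ⟨-, i1, i2, i3⟩ := Finset.mem_filter.1 hi
    refine ⟨i1, Finset.mem_filter.2 ⟨Finset.mem_univ _, h.hyp_dual i1, fun e => i3 ?_, fun e => i2 ?_⟩⟩
    · exact (h.dual_eq e).symm
    · rw [← h.invol i, e, h.invol]
  have hgK : Fixes K (u * g) := fun i hi => by
    obtain ⟨-, i1, i2, i3⟩ := Finset.mem_filter.1 hi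
    exact hfix i i1 i2 i3
  have haK : a ∉ K := by simp [hKdef]
  have hσK : σ a ∉ K := by simp [hKdef]
  set v := (u * g).1 (δ[F] a) with hvdef
  have hvK : ∀ i ∈ K, v i = 0 := fun i hi => by
    rw [hvdef, h.apply_fixed hK hgK _ hi, Pi.single_eq_of_ne fun e : i = a => haK (e ▸ hi)]
  have hvQ : Q v = 0 := by rw [hvdef, (u * g).2, h.quad_hyp a ha]
  obtain ⟨c, hca, hvc⟩ : ∃ c, (c = a ∨ c = σ a) ∧ v c ≠ 0 := by
    by_contra hc
    push Not at hc
    have hfix0 : ∀ i, σ i ≠ i → v i = 0 := fun i hi => by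
      by_cases hia : i = a
      · exact hc i (Or.inl hia)
      by_cases hiσ : i = σ a
      · exact hc i (Or.inr hiσ)
      exact hvK i (Finset.mem_filter.2 ⟨Finset.mem_univ _, hi, hia, hiσ⟩)
    have hv0 : v = 0 := by
      funext i
      by_cases hi : σ i = i
      · have e : v = v i • δ[F] i := by
          funext k
          by_cases hk : k = i
          · subst hk; simp
          · simp [Pi.single_eq_of_ne hk, hfix0 k fun e => hk (h.fix_unique k i e hi)]
        rw [e, quad_smul, h.quad_fix i hi, mul_one, mul_self_eq_zero] at hvQ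
        exact hvQ
      · exact hfix0 i hi
    rw [hvdef] at hv0
    have := (u * g).1.map_eq_zero_iff.1 hv0
    simpa using congrFun this a
  have hc : σ c ≠ c := by rcases hca with rfl | rfl; exacts [ha, h.hyp_dual ha]
  have hcK : c ∉ K := by rcases hca with rfl | rfl <;> assumption
  have hσcK : σ c ∉ K := by
    rcases hca with rfl | rfl
    · exact hσK
    · rwa [h.invol]
  obtain ⟨u₁, hu₁, hf₁, -, e₁⟩ := h.clear hK hc hcK hvQ hvK hvc
  set g₁ := u₁ * (u * g) with hg₁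
  have hg1a : g₁.1 (δ[F] a) = v c • δ[F] c := e₁
  have hg1K : Fixes K g₁ := hf₁.mul hgK
  set w := g₁.1 (δ[F] (σ a)) with hwdef
  have hwK : ∀ i ∈ K, w i = 0 := fun i hi => by
    rw [hwdef, h.apply_fixed hK hg1K _ hi, Pi.single_eq_of_ne fun e : i = σ a => hσK (e ▸ hi)]
  have hwc : w (σ c) = (v c)⁻¹ := by
    have e := polar_oGroup g₁ (δ[F] (σ a)) (δ[F] a)
    rw [hg1a, polar_smul_right, h.polar_hyp _ _ hc, h.polar_hyp _ _ ha, Pi.single_eq_same,
      smul_eq_mul] at e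
    exact eq_inv_of_mul_eq_one_right e
  obtain ⟨u₂, hu₂, hf₂, e₂, e₃⟩ := h.clear hK (h.hyp_dual hc) hσcK (v := w)
    (by rw [hwdef, g₁.2, h.quad_hyp _ (h.hyp_dual ha)]) hwK
    (by rw [hwc]; exact inv_ne_zero hvc)
  rw [h.invol] at e₂
  rw [hwc] at e₃
  refine ⟨u₂ * u₁ * u, mul_mem (mul_mem hu₂ hu₁) hu, ?_⟩
  rw [show u₂ * u₁ * u * g = u₂ * g₁ by simp only [hg₁, mul_assoc]]
  have hG : Fixes K (u₂ * g₁) := hf₂.mul hg1K
  have hGa : (u₂ * g₁).1 (δ[F] a) = v c • δ[F] c := by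
    show u₂.1 (g₁.1 _) = _
    rw [hg1a, map_smul, e₂]
  have hGσ : (u₂ * g₁).1 (δ[F] (σ a)) = (v c)⁻¹ • δ[F] (σ c) := e₃
  refine ⟨fun i i1 i2 i3 => hG i (Finset.mem_filter.2 ⟨Finset.mem_univ _, i1, i2, i3⟩),
    ⟨c, v c, hca, hvc, hGa, hGσ⟩, fun i hi => ?_⟩
  set G := u₂ * g₁
  set x := G.1 (δ[F] i) with hx
  have hne : ∀ k, σ k ≠ k → k ≠ i := fun k hk e => hk (e ▸ hi)
  have hx0 : ∀ k, σ k ≠ k → x k = 0 := by
    intro k hk
    by_cases hkK : k ∈ K
    · rw [hx, h.apply_fixed hK hG _ hkK, Pi.single_eq_of_ne (hne k hk)]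
    have hk2 : k = c ∨ k = σ c := by
      have hk' : k = a ∨ k = σ a := by
        by_contra hc'
        push Not at hc'
        exact hkK (Finset.mem_filter.2 ⟨Finset.mem_univ _, hk, hc'.1, hc'.2⟩)
      rcases hca with rfl | rfl <;> rcases hk' with rfl | rfl <;> simp [h.invol]
    rcases hk2 with rfl | rfl
    · have e := polar_oGroup G (δ[F] i) (δ[F] (σ a))
      rw [← hx, hGσ, polar_smul_right, h.polar_hyp _ _ (h.hyp_dual hc), h.invol,
        h.polar_hyp _ _ (h.hyp_dual ha), h.invol, Pi.single_eq_of_ne (hne a ha), smul_eq_mul,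
        mul_eq_zero, or_iff_right (inv_ne_zero hvc)] at e
      exact e
    · have e := polar_oGroup G (δ[F] i) (δ[F] a)
      rw [← hx, hGa, polar_smul_right, h.polar_hyp _ _ hc, h.polar_hyp _ _ ha,
        Pi.single_eq_of_ne (hne _ (h.hyp_dual ha)), smul_eq_mul, mul_eq_zero, or_iff_right hvc] at e
      exact e
  have e : x = x i • δ[F] i := by
    funext k
    by_cases hk : k = i
    · subst hk; simp
    · simp [Pi.single_eq_of_ne hk, hx0 k fun e => hk (h.fix_unique k i e hi)]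
  refine ⟨x i, ?_, e⟩
  have hq := G.2 (δ[F] i)
  rw [← hx, e, quad_smul, h.quad_fix i hi, mul_one] at hq
  exact hq

/-- **Every commutator of isometries is elementary.** -/
theorem commutator_le {a b : ι} (ha : σ a ≠ a) (hb : σ b ≠ b) (hba : b ≠ a) (hbσ : b ≠ σ a) :
    commutator (oGroup Q) ≤ elemGroup Q σ := by
  have hnorm : ∀ g : oGroup Q, Mono (σ := σ) a g → ∀ u ∈ elemGroup Q σ,
      g * u * g⁻¹ ∈ elemGroup Q σ := by
    rintro g ⟨hfix, ⟨c, lam, hc, hlam, e1, e2⟩, -⟩ u hu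
    refine h.normalize (fun i hi => ?_) hu
    by_cases hia : i = a
    · exact ⟨c, lam, by rcases hc with rfl | rfl; exacts [ha, h.hyp_dual ha], hlam, hia ▸ e1⟩
    by_cases hiσ : i = σ a
    · refine ⟨σ c, lam⁻¹, ?_, inv_ne_zero hlam, hiσ ▸ e2⟩
      rcases hc with rfl | rfl
      · exact h.hyp_dual ha
      · simpa [h.invol] using ha
    exact ⟨i, 1, hi, one_ne_zero, by rw [hfix i hi hia hiσ, one_smul]⟩
  have hnormal : ∀ g : oGroup Q, ∀ u ∈ elemGroup Q σ, g * u * g⁻¹ ∈ elemGroup Q σ := by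
    intro g u hu
    obtain ⟨w, hw, hm⟩ := h.exists_mono a b ha hb hba hbσ g
    rw [show g * u * g⁻¹ = w⁻¹ * (w * g * u * (w * g)⁻¹) * w by group]
    exact mul_mem (mul_mem (inv_mem hw) (hnorm _ hm u hu)) hw
  haveI : (elemGroup Q σ).Normal := ⟨fun u hu g => hnormal g u hu⟩
  rw [commutator_eq_closure, Subgroup.closure_le]
  rintro _ ⟨x, y, rfl⟩
  obtain ⟨u, hu, hx⟩ := h.exists_mono a b ha hb hba hbσ x
  obtain ⟨w, hw, hy⟩ := h.exists_mono a b ha hb hba hbσ y
  rw [SetLike.mem_coe, ← QuotientGroup.eq_one_iff]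
  have ex : ((u * x : oGroup Q) : oGroup Q ⧸ elemGroup Q σ) = x := by
    rw [QuotientGroup.mk_mul, (QuotientGroup.eq_one_iff u).2 hu, one_mul]
  have ey : ((w * y : oGroup Q) : oGroup Q ⧸ elemGroup Q σ) = y := by
    rw [QuotientGroup.mk_mul, (QuotientGroup.eq_one_iff w).2 hw, one_mul]
  rw [commutatorElement_def, QuotientGroup.mk_mul, QuotientGroup.mk_mul, QuotientGroup.mk_mul,
    QuotientGroup.mk_inv, QuotientGroup.mk_inv, ← ex, ← ey, ← QuotientGroup.mk_inv,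
    ← QuotientGroup.mk_inv, ← QuotientGroup.mk_mul, ← QuotientGroup.mk_mul, ← QuotientGroup.mk_mul,
    QuotientGroup.eq_one_iff]
  clear ex ey
  obtain ⟨fx, ⟨c, lam, hc, hlam, xa, xσ⟩, xo⟩ := hx
  obtain ⟨fy, ⟨d, mu, hd, hmu, ya, yσ⟩, yo⟩ := hy
  set X := u * x
  set Y := w * y
  have inv_apply : ∀ (g : oGroup Q) (p r : ι → F), g.1 p = r → (g⁻¹).1 r = p := by
    intro g p r e
    rw [← e]
    exact g.1.symm_apply_apply p
  have inv_smul' : ∀ (g : oGroup Q) (p r : ι → F) (k : F), k ≠ 0 → g.1 p = k • r →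
      (g⁻¹).1 r = k⁻¹ • p := by
    intro g p r k hk e
    rw [← inv_apply g p _ e, map_smul, smul_smul, inv_mul_cancel₀ hk, one_smul]
  have xia := inv_smul' X _ _ lam hlam xa
  have xiσ := inv_smul' X _ _ lam⁻¹ (inv_ne_zero hlam) xσ
  have yia := inv_smul' Y _ _ mu hmu ya
  have yiσ := inv_smul' Y _ _ mu⁻¹ (inv_ne_zero hmu) yσ
  rw [inv_inv] at xiσ yiσ
  set D := X * Y * X⁻¹ * Y⁻¹ with hD
  have hDapp : ∀ p, D.1 p = X.1 (Y.1 ((X⁻¹).1 ((Y⁻¹).1 p))) := fun _ => rfl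
  obtain ⟨t, ht, eDa, eDσ⟩ : ∃ t : F, t ≠ 0 ∧ D.1 (δ[F] a) = (t * t) • δ[F] a ∧
      D.1 (δ[F] (σ a)) = (t * t)⁻¹ • δ[F] (σ a) := by
    rcases hc with rfl | rfl <;> rcases hd with rfl | rfl
    · refine ⟨1, one_ne_zero, ?_, ?_⟩
      · simp only [hDapp, yia, map_smul, xia, xa, ya, smul_smul]
        congr 1; field_simp
      · simp only [hDapp, yiσ, map_smul, xiσ, xσ, yσ, smul_smul]
        congr 1; field_simp
    · rw [h.invol] at yσ yiσ
      refine ⟨lam, hlam, ?_, ?_⟩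
      · simp only [hDapp, yiσ, map_smul, xiσ, xa, yσ, smul_smul]
        congr 1; field_simp
      · simp only [hDapp, yia, map_smul, xia, xσ, ya, smul_smul]
        congr 1; field_simp
    · rw [h.invol] at xσ xiσ
      refine ⟨mu⁻¹, inv_ne_zero hmu, ?_, ?_⟩
      · simp only [hDapp, yia, map_smul, xiσ, yσ, xσ, smul_smul]
        congr 1; field_simp
      · simp only [hDapp, yiσ, map_smul, xia, ya, xa, smul_smul]
        congr 1; field_simp
    · rw [h.invol] at xσ xiσ yσ yiσ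
      refine ⟨mu / lam, div_ne_zero hmu hlam, ?_, ?_⟩
      · simp only [hDapp, yiσ, map_smul, xia, yσ, xa, ya, xσ, xiσ, yia, smul_smul]
        congr 1; field_simp
      · simp only [hDapp, yia, map_smul, xiσ, ya, xσ, xa, xia, yσ, yiσ, smul_smul]
        congr 1; field_simp
  obtain ⟨z, hz, za, zσ, zf⟩ := h.exists_diag_sq ha hb hba hbσ ht
  rw [show D = z from h.oGroup_ext fun i => ?_]
  · exact hz
  by_cases hia : i = a
  · rw [hia, eDa, za]
  by_cases hiσ : i = σ a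
  · rw [hiσ, eDσ, zσ]
  rw [zf i hia hiσ, hDapp]
  by_cases hi : σ i = i
  · obtain ⟨s, hs, xs⟩ := xo i hi
    obtain ⟨s', hs', ys⟩ := yo i hi
    have hs0 : s ≠ 0 := fun e => by simp [e] at hs
    have hs0' : s' ≠ 0 := fun e => by simp [e] at hs'
    rw [inv_smul' Y _ _ s' hs0' ys, map_smul, inv_smul' X _ _ s hs0 xs, smul_smul, map_smul, ys,
      smul_smul, map_smul, xs, smul_smul]
    rw [show s'⁻¹ * s⁻¹ * s' * s = 1 by field_simp, one_smul]
  · rw [inv_apply Y _ _ (fy i hi hia hiσ), inv_apply X _ _ (fx i hi hia hiσ), fy i hi hia hiσ,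
      fx i hi hia hiσ]

end HypFrame

end CfsgLib.OrthElem
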