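import Cfsg.Agent.OrthElem.Basic
import Cfsg.Agent.Chev.Comm
import Cfsg.Agent.Chev.SteinbergPres

/-!
# Root elements of a split orthogonal group satisfying Steinberg's relations

A table gives to each root a pair of coordinates and a sign; the kernel checks the commutator formula on the
corresponding root transformations as an identity of polynomials in two variables.
-/

set_option autoImplicit false
set_option linter.unusedSectionVars false

namespace CfsgLib.OrthElem

open QuadraticMap CfsgLib.Forms CfsgLib.Quad CfsgLib.Chev Cfsg.Lie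

/-- Pairs of coordinates with a sign, one for each root. -/
structure Table where
  /-- the number of coordinates -/
  n : ℕ
  /-- the pairing of the coordinates -/
  dual : ℕ → ℕ
  /-- the pair and sign of each root -/
  codes : List (ℕ × ℕ × ℤ)

namespace Table

variable (M : Table)

/-- The code of a root. -/
def get (r : ℕ) : ℕ × ℕ × ℤ := M.codes.getD r (0, 0, 0)

/-- The polar value of a coordinate vector with its partner. -/
def pc (b : ℕ) : ℤ := cond (Nat.beq (M.dual b) b) 2 1

/-- The value of the form at a coordinate vector. -/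
def qb (b : ℕ) : ℤ := cond (Nat.beq (M.dual b) b) 1 0

/-- The off-diagonal entries `(row, column, degree, coefficient)` of a root element. -/
def entries (r : ℕ) : List (ℕ × ℕ × ℕ × ℤ) :=
  [((M.get r).2.1, M.dual (M.get r).1, 1, (M.get r).2.2),
    ((M.get r).1, M.dual (M.get r).2.1, 1, -((M.get r).2.2 * M.pc (M.get r).2.1)),
    ((M.get r).1, M.dual (M.get r).1, 2, -(M.qb (M.get r).2.1))]

/-- The contribution of the entries of a root element. -/
def step (f : ℕ × ℤ × ℕ × ℕ) (p : (ℕ × ℕ × ℕ) × ℤ) : PVec :=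
  (M.entries f.1).flatMap fun e => cond (Nat.beq e.2.1 p.1.1)
    [((e.1, Nat.add p.1.2.1 (Nat.mul e.2.2.1 f.2.2.1), Nat.add p.1.2.2 (Nat.mul e.2.2.1 f.2.2.2)),
      f.2.1 ^ e.2.2.1 * e.2.2.2 * p.2)] []

/-- A root element applied to a polynomial vector. -/
def app (f : ℕ × ℤ × ℕ × ℕ) (v : PVec) : PVec := v ++ v.flatMap (M.step f)

/-- A word applied to a coordinate vector. -/
def col (fs : List (ℕ × ℤ × ℕ × ℕ)) (b : ℕ) : PVec :=
  fs.foldr (fun f v => pnorm (M.app f v)) [((b, 0, 0), 1)]

/-- The code of a root is a pair of distinct non-partners, the first one paired. -/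
def chkCode (r : ℕ) : Bool :=
  Nat.blt (M.get r).1 M.n && Nat.blt (M.get r).2.1 M.n &&
    !(Nat.beq (M.dual (M.get r).1) (M.get r).1) && !(Nat.beq (M.get r).2.1 (M.get r).1) &&
    !(Nat.beq (M.get r).2.1 (M.dual (M.get r).1)) && decide ((M.get r).2.2 * (M.get r).2.2 = 1)

/-- Every pair of coordinates is the code of a root, up to order. -/
def chkCover (N : ℕ) : Bool :=
  allBelow (fun a => allBelow (fun b => Nat.beq (M.dual a) a || Nat.beq b a || Nat.beq b (M.dual a) ||
    (List.range N).any fun r => (Nat.beq (M.get r).1 a && Nat.beq (M.get r).2.1 b) ||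
      (!(Nat.beq (M.dual b) b) && Nat.beq (M.get r).1 b && Nat.beq (M.get r).2.1 a)) M.n) M.n

/-- The commutator formula for a pair of roots, on every coordinate vector. -/
def chkPair {D : ChevalleyDatum} (T : Tab D) (r s : ℕ) : Bool :=
  (T.commT r s).all (fun c => Nat.blt c.1 D.nroots) &&
  allBelow (fun b =>
    pisZero (M.col [(s, -1, 0, 1), (r, -1, 1, 0), (s, 1, 0, 1), (r, 1, 1, 0)] b ++
      (M.col ((T.commT r s).map (fun c => (c.1, c.2.1 * (-1) ^ c.2.2.1, c.2.2.1, c.2.2.2))) b).map
        fun q => (q.1, -q.2))) M.n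

/-- All the checks. -/
def chk {D : ChevalleyDatum} (T : Tab D) : Bool :=
  allBelow M.chkCode D.nroots && M.chkCover D.nroots &&
    allBelow (fun r => allBelow (fun s => Nat.beq s r || Nat.beq s (Tab.negR D r) || M.chkPair T r s)
      D.nroots) D.nroots

variable {F : Type*} [Field F] {ι : Type} [Fintype ι] [DecidableEq ι]

/-- The coordinates of the table are those of the frame. -/
structure Fits (σ : ι → ι) (code : ι → ℕ) : Prop where
  inj : Function.Injective code
  lt : ∀ i, code i < M.n
  surj : ∀ k < M.n, ∃ i, code i = k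
  dual_code : ∀ i, M.dual (code i) = code (σ i)

/-- The vector of a polynomial vector. -/
def pev (code : ι → ℕ) (t u : F) (v : PVec) : ι → F :=
  fun i => (v.map fun p => if p.1.1 = code i then (p.2 : F) * t ^ p.1.2.1 * u ^ p.1.2.2 else 0).sum

theorem pev_append (code : ι → ℕ) (t u : F) (v w : PVec) :
    pev code t u (v ++ w) = pev code t u v + pev code t u w := by
  funext i; simp [pev]

theorem pev_cons (code : ι → ℕ) (t u : F) (p : (ℕ × ℕ × ℕ) × ℤ) (v : PVec) (i : ι) :
    pev code t u (p :: v) i =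
      (if p.1.1 = code i then (p.2 : F) * t ^ p.1.2.1 * u ^ p.1.2.2 else 0) + pev code t u v i := by
  simp [pev]

theorem pev_neg (code : ι → ℕ) (t u : F) (v : PVec) :
    pev code t u (v.map fun q => (q.1, -q.2)) = - pev code t u v := by
  induction v with
  | nil => funext i; simp [pev]
  | cons q v ih =>
    funext i
    have := congrFun ih i
    simp only [List.map_cons, pev_cons, Pi.neg_apply] at this ⊢
    rw [this]
    split_ifs <;> push_cast <;> ring

theorem pev_pins (code : ι → ℕ) (t u : F) (p : (ℕ × ℕ × ℕ) × ℤ) (v : PVec) :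
    pev code t u (pins p v) = pev code t u (p :: v) := by
  induction v with
  | nil => rfl
  | cons q v ih =>
    funext i
    have := congrFun ih i
    unfold pins
    rcases hb : (Nat.beq q.1.1 p.1.1 && Nat.beq q.1.2.1 p.1.2.1 && Nat.beq q.1.2.2 p.1.2.2)
    · simp only [cond_false, pev_cons] at this ⊢
      rw [this]; ring
    · simp only [Bool.and_eq_true, Nat.beq_eq] at hb
      simp only [cond_true, pev_cons, ← hb.1.1, ← hb.1.2, ← hb.2]
      split_ifs <;> push_cast <;> ring

theorem pev_pnorm (code : ι → ℕ) (t u : F) (v : PVec) :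
    pev code t u (pnorm v) = pev code t u v := by
  induction v with
  | nil => rfl
  | cons p v ih =>
    rw [show pnorm (p :: v) = pins p (pnorm v) from rfl, pev_pins]
    funext i
    rw [pev_cons, pev_cons, ih]

theorem pev_isZero (code : ι → ℕ) (t u : F) {v : PVec} (h : pisZero v = true) :
    pev code t u v = 0 := by
  rw [← pev_pnorm]
  simp only [pisZero, List.all_eq_true, decide_eq_true_eq] at h
  funext i
  refine List.sum_eq_zero fun x hx => ?_
  obtain ⟨p, hp, rfl⟩ := List.mem_map.mp hx
  simp [h p hp]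

theorem pev_cond (code : ι → ℕ) (t u : F) (c : Bool) (p : (ℕ × ℕ × ℕ) × ℤ) (i : ι) :
    pev code t u (cond c [p] []) i =
      if c = true then (if p.1.1 = code i then (p.2 : F) * t ^ p.1.2.1 * u ^ p.1.2.2 else 0) else 0 := by
  cases c <;> simp [pev]

variable {Q : QuadraticForm F (ι → F)} {σ : ι → ι} {code : ι → ℕ}
  (h : HypFrame Q σ) (hM : M.Fits σ code)

/-- The coordinate of a number. -/
noncomputable def pt (code : ι → ℕ) [Nonempty ι] (k : ℕ) : ι := Function.invFun code k

/-- The root element of a root. -/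
noncomputable def y (Q : QuadraticForm F (ι → F)) (code : ι → ℕ) [Nonempty ι] (r : ℕ) (t : F) :
    oGroup Q :=
  siegel Q (δ[F] (pt code (M.get r).1)) ((((M.get r).2.2 : F) * t) • δ[F] (pt code (M.get r).2.1))

variable [Nonempty ι]

include hM in
theorem code_pt {k : ℕ} (hk : k < M.n) : code (pt code k) = k :=
  Function.invFun_eq (hM.surj k hk)

include hM in
theorem pt_code (i : ι) : pt code (code i) = i :=
  hM.inj (M.code_pt hM (hM.lt i))

include hM in
theorem code_spec {r : ℕ} (hr : M.chkCode r = true) :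
    ∃ a b, (M.get r).1 = code a ∧ (M.get r).2.1 = code b ∧ pt code (M.get r).1 = a ∧
      pt code (M.get r).2.1 = b ∧ σ a ≠ a ∧ b ≠ a ∧ b ≠ σ a ∧
      ((M.get r).2.2 : F) * (M.get r).2.2 = 1 := by
  simp only [chkCode, Bool.and_eq_true, Nat.blt_eq, Bool.not_eq_true', decide_eq_true_eq] at hr
  obtain ⟨⟨⟨⟨⟨ha, hb⟩, h1⟩, h2⟩, h3⟩, h4⟩ := hr
  have nb : ∀ {x y : ℕ}, Nat.beq x y = false → x ≠ y := fun e e' => by
    rw [e', Nat.beq_refl] at e; exact Bool.noConfusion e
  have ea := M.code_pt hM ha
  have eb := M.code_pt hM hb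
  refine ⟨_, _, ea.symm, eb.symm, rfl, rfl, fun e => nb h1 ?_, fun e => nb h2 ?_,
    fun e => nb h3 ?_, ?_⟩
  · rw [← ea, hM.dual_code, e]
  · rw [← ea, ← eb, e]
  · rw [← ea, ← eb, hM.dual_code, e]
  · rw [← Int.cast_mul, h4, Int.cast_one]

include h hM in
theorem y_apply {r : ℕ} (hr : M.chkCode r = true) (t : F) (x : ι → F) (i : ι) :
    (M.y Q code r t).1 x i = x i +
      (if (M.get r).2.1 = code i then ((M.get r).2.2 : F) * t * x (pt code (M.dual (M.get r).1))
        else 0) +
      (if (M.get r).1 = code i then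
        -(((M.get r).2.2 : F) * (M.pc (M.get r).2.1 : F)) * t * x (pt code (M.dual (M.get r).2.1)) -
          (M.qb (M.get r).2.1 : F) * t ^ 2 * x (pt code (M.dual (M.get r).1)) else 0) := by
  obtain ⟨a, b, ea, eb, pa, pb, ha, hba, hbσ, hs⟩ := M.code_spec (F := F) hM hr
  have hp := h.polar_delta_ne ha hbσ (((M.get r).2.2 : F) * t)
  rw [y, pa, pb, siegel_apply (h.quad_hyp a ha) hp, polar_smul_right, h.polar_hyp x a ha, quad_smul,
    ea, eb, hM.dual_code, hM.dual_code, M.pt_code hM, M.pt_code hM]
  simp only [Pi.sub_apply, Pi.add_apply, Pi.smul_apply, smul_eq_mul, hM.inj.eq_iff,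
    Pi.single_apply, @eq_comm _ i]
  by_cases hb : σ b = b
  · rw [h.polar_fix x b hb, h.quad_fix b hb, hb]
    have e : Nat.beq (M.dual (code b)) (code b) = true := by rw [hM.dual_code, hb, Nat.beq_refl]
    simp only [pc, qb, e, cond_true]
    split_ifs <;> push_cast <;> (try ring_nf) <;> (try rw [← pow_two] at hs) <;>
      (try simp [hs]) <;> ring
  · rw [h.polar_hyp x b hb, h.quad_hyp b hb]
    have e : Nat.beq (M.dual (code b)) (code b) = false := by
      rw [Bool.eq_false_iff]; intro e
      exact hb (hM.inj (by rw [← hM.dual_code]; exact Nat.eq_of_beq_eq_true e))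
    simp only [pc, qb, e, cond_false]
    split_ifs <;> push_cast <;> ring

/-- The value of a monomial factor. -/
noncomputable def fy (Q : QuadraticForm F (ι → F)) (code : ι → ℕ) (t u : F)
    (f : ℕ × ℤ × ℕ × ℕ) : oGroup Q :=
  M.y Q code f.1 ((f.2.1 : F) * t ^ f.2.2.1 * u ^ f.2.2.2)

include h hM in
theorem pev_app {f : ℕ × ℤ × ℕ × ℕ} (hf : M.chkCode f.1 = true) (t u : F) (v : PVec) :
    pev code t u (M.app f v) = (M.fy Q code t u f).1 (pev code t u v) := by
  funext i
  rw [fy, M.y_apply h hM hf, app, pev_append, Pi.add_apply, add_assoc]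
  congr 1
  obtain ⟨a, b, ea, eb, pa, pb, -⟩ := M.code_spec (F := F) hM hf
  rw [ea, eb, hM.dual_code, hM.dual_code, M.pt_code hM, M.pt_code hM]
  induction v with
  | nil => simp [pev]
  | cons p v ih =>
    rw [List.flatMap_cons, pev_append, Pi.add_apply, ih, pev_cons, pev_cons]
    simp only [step, entries, ea, eb, hM.dual_code, List.flatMap_cons, List.flatMap_nil,
      List.append_nil, pev_append, Pi.add_apply, pev_cond, Nat.add_eq, Nat.mul_eq, Nat.beq_eq,
      one_mul, pow_one]
    simp only [eq_comm (a := code (σ a)) (b := p.1.1), eq_comm (a := code (σ b)) (b := p.1.1)]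
    split_ifs <;> push_cast <;> (try simp only [pow_add, pow_mul, mul_pow]) <;> ring

include h hM in
theorem pev_col {fs : List (ℕ × ℤ × ℕ × ℕ)} (hfs : ∀ f ∈ fs, M.chkCode f.1 = true) (t u : F)
    (i : ι) :
    pev code t u (M.col fs (code i)) = ((fs.map (M.fy Q code t u)).prod).1 (δ[F] i) := by
  induction fs with
  | nil =>
    funext k
    show _ = (δ[F] i) k
    simp [col, pev, Pi.single_apply, hM.inj.eq_iff, eq_comm]
  | cons f fs ih =>
    rw [show M.col (f :: fs) (code i) = pnorm (M.app f (M.col fs (code i))) from rfl, pev_pnorm,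
      M.pev_app h hM (hfs f (by simp)), ih fun g hg => hfs g (by simp [hg]), List.map_cons,
      List.prod_cons]
    rfl

include h hM in
theorem y_add {r : ℕ} (hr : M.chkCode r = true) (t u : F) :
    M.y Q code r t * M.y Q code r u = M.y Q code r (t + u) := by
  obtain ⟨a, b, -, -, pa, pb, ha, hba, hbσ, -⟩ := M.code_spec (F := F) hM hr
  simp only [y, pa, pb]
  rw [siegel_mul (h.quad_hyp a ha) (h.polar_delta_ne ha hbσ _) (h.polar_delta_ne ha hbσ _),
    ← add_smul, ← mul_add]

include h hM in
theorem y_inv {r : ℕ} (hr : M.chkCode r = true) (t : F) :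
    (M.y Q code r t)⁻¹ = M.y Q code r (-t) := by
  obtain ⟨a, b, -, -, pa, pb, ha, hba, hbσ, -⟩ := M.code_spec (F := F) hM hr
  simp only [y, pa, pb]
  rw [siegel_inv (h.quad_hyp a ha) (h.polar_delta_ne ha hbσ _), ← neg_smul, mul_neg]

variable {D : ChevalleyDatum} {T : Tab D} (G : T.Good) (hc : M.chk T = true)

include hc in
theorem chk_code {r : ℕ} (hr : r < D.nroots) : M.chkCode r = true := by
  simp only [chk, Bool.and_eq_true, allBelow_iff] at hc
  exact hc.1.1 r hr

include h hM hc G in
theorem y_comm {r s : ℕ} (hr : r < D.nroots) (hs : s < D.nroots) (h1 : s ≠ r)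
    (h2 : s ≠ Tab.negR D r) (t u : F) :
    (M.y Q code s u)⁻¹ * (M.y Q code r t)⁻¹ * M.y Q code s u * M.y Q code r t =
      ((rhsWord (T.commT r s) t u).map fun p => M.y Q code p.1 p.2).prod := by
  have hcode := fun r hr => M.chk_code hc (r := r) hr
  simp only [chk, chkPair, Bool.and_eq_true, allBelow_iff, Bool.or_eq_true, Nat.beq_eq,
    List.all_eq_true, Nat.blt_eq] at hc
  obtain ⟨hlt, hz⟩ := (hc.2 r hr s hs).resolve_left (by rintro (e | e) <;> contradiction)
  refine h.oGroup_ext fun i => ?_
  have e := pev_isZero code t u (hz (code i) (hM.lt i))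
  rw [pev_append, pev_neg, ← sub_eq_add_neg, sub_eq_zero,
    M.pev_col h hM (Q := Q) (by
      intro f hf; simp only [List.mem_cons, List.not_mem_nil, or_false] at hf
      rcases hf with rfl | rfl | rfl | rfl <;> first | exact hcode s hs | exact hcode r hr),
    M.pev_col h hM (Q := Q) (by
      intro f hf; obtain ⟨c, hc', rfl⟩ := List.mem_map.mp hf; exact hcode _ (hlt c hc'))] at e
  have eL : ([(s, (-1 : ℤ), 0, 1), (r, -1, 1, 0), (s, 1, 0, 1), (r, 1, 1, 0)].map
      (M.fy Q code t u)).prod =
      (M.y Q code s u)⁻¹ * (M.y Q code r t)⁻¹ * M.y Q code s u * M.y Q code r t := by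
    simp [fy, M.y_inv h hM (hcode s hs), M.y_inv h hM (hcode r hr), mul_assoc]
  have eR : (((T.commT r s).map fun c => (c.1, c.2.1 * (-1) ^ c.2.2.1, c.2.2.1, c.2.2.2)).map
      (M.fy Q code t u)).prod = ((rhsWord (T.commT r s) t u).map fun p => M.y Q code p.1 p.2).prod := by
    simp only [rhsWord, List.map_map]
    congr 1
    refine List.map_congr_left fun c _ => ?_
    simp only [Function.comp_apply, fy]
    congr 1
    rw [neg_pow t]; push_cast; ring
  rw [eL, eR] at e
  exact e

include h hM hc G in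
/-- The map from the presented group. -/
noncomputable def hom : D.SteinbergCover F →* oGroup Q :=
  PresentedGroup.toGroup (f := fun p : Fin D.nroots × F => M.y Q code p.1.val p.2) (by
    have hX : ∀ (r : ℕ) (t : F), r < D.nroots →
        FreeGroup.lift (fun p : Fin D.nroots × F => M.y Q code p.1.val p.2) (D.stX r t) =
          M.y Q code r t := fun r t hr => by simp [ChevalleyDatum.stX, hr]
    rintro g (⟨r, t₁, t₂, hr, rfl⟩ | ⟨r, s, t, u, hr, hs, hne, hne', rfl⟩)
    · rw [map_mul, map_mul, map_inv, hX r _ hr, hX r _ hr, hX r _ hr,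
        M.y_add h hM (M.chk_code hc hr), mul_inv_cancel]
    · rw [G.full.cert.neg_eq hr] at hne'
      rw [map_mul, map_mul, map_mul, map_mul, map_inv, map_inv, map_inv, hX r _ hr, hX s _ hs,
        G.full.cert.commWord_eq hr hs, mul_inv_eq_one, M.y_comm h hM G hc hr hs hne hne',
        ChevalleyDatum.stWord, map_list_prod, List.map_map]
      congr 1
      refine List.map_congr_left fun p hp => (hX _ _ ?_).symm
      simp only [rhsWord, List.mem_map] at hp
      obtain ⟨c, hc', rfl⟩ := hp
      simp only [chk, chkPair, Bool.and_eq_true, allBelow_iff, Bool.or_eq_true, Nat.beq_eq,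
        List.all_eq_true, Nat.blt_eq] at hc
      exact ((hc.2 r hr s hs).resolve_left (by rintro (e | e) <;> contradiction)).1 c hc')

include h hM hc G in
theorem hom_scGen {r : ℕ} (hr : r < D.nroots) (t : F) :
    M.hom h hM G hc (D.scGen F r t) = M.y Q code r t := by
  rw [hom, ChevalleyDatum.scGen]
  show FreeGroup.lift _ (D.stX r t) = _
  simp [ChevalleyDatum.stX, hr]

include h hM hc G in
/-- The root elements generate the elementary group. -/
theorem elemGroup_le : elemGroup Q σ ≤ (M.hom h hM G hc).range := by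
  have hc0 := hc
  simp only [chk, chkCover, Bool.and_eq_true, allBelow_iff, Bool.or_eq_true, Nat.beq_eq,
    List.any_eq_true, List.mem_range, Bool.not_eq_true'] at hc
  rw [elemGroup, Subgroup.closure_le]
  rintro g ⟨a, b, c, ha, hba, hbσ, rfl⟩
  obtain ⟨r, hr, hcase⟩ := (hc.1.2 (code a) (hM.lt a) (code b) (hM.lt b)).resolve_left (by
    rintro ((e | e) | e)
    · exact ha (hM.inj ((hM.dual_code a).symm.trans e))
    · exact hba (hM.inj e)
    · exact hbσ (hM.inj (e.trans (hM.dual_code a))))
  obtain ⟨a', b', ea, eb, pa, pb, -, -, -, hs⟩ := M.code_spec (F := F) hM (M.chk_code hc0 hr)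
  rcases hcase with ⟨e1, e2⟩ | ⟨⟨e1, e2⟩, e3⟩
  · obtain rfl := hM.inj (ea.symm.trans e1)
    obtain rfl := hM.inj (eb.symm.trans e2)
    refine ⟨D.scGen F r ((M.get r).2.2 * c), ?_⟩
    rw [M.hom_scGen h hM G hc0 hr, y, pa, pb, ← mul_assoc, hs, one_mul]
  · obtain rfl := hM.inj (ea.symm.trans e2)
    obtain rfl := hM.inj (eb.symm.trans e3)
    have hb : σ a' ≠ a' := fun e => by
      rw [hM.dual_code, e, Nat.beq_refl] at e1
      exact Bool.noConfusion e1
    refine ⟨D.scGen F r ((M.get r).2.2 * -c), ?_⟩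
    rw [M.hom_scGen h hM G hc0 hr, y, pa, pb, ← mul_assoc, hs, one_mul]
    refine h.oGroup_ext fun i => ?_
    have p1 := h.polar_delta_ne hb (fun e => hbσ ((h.dual_eq e.symm).symm)) (-c)
    have p2 := h.polar_delta_ne ha hbσ c
    rw [siegel_apply (h.quad_hyp _ hb) p1, siegel_apply (h.quad_hyp _ ha) p2, polar_smul_right,
      polar_smul_right, quad_smul, quad_smul, h.quad_hyp _ ha, h.quad_hyp _ hb,
      h.polar_hyp _ _ ha, h.polar_hyp _ _ hb]
    simp only [smul_eq_mul, mul_zero, zero_mul, add_zero, smul_smul]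
    module

end Table

end CfsgLib.OrthElem
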